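import Groth.Agent.S18731
import Groth.Agent.S18749
import Groth.Agent.S18750
import Groth.Agent.S18738
import Groth.Agent.Lib.Nagata6.Proper
import Groth.Agent.Lib.Nagata6.UnionData
import Groth.Agent.Lib.ModPair19.Closure
import Groth.Agent.Lib.RelDiv.Cancel
import Mathlib.CategoryTheory.Localization.CalculusOfFractions
import Mathlib.CategoryTheory.Limits.Shapes.Pullback.IsPullback.Basic
import Groth.Prelude.Def_W4c6modpairsegaMP

/-!
# Ambient products are fibre products after inverting admissible blow-ups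
-/

set_option backward.isDefEq.respectTransparency false

universe u

open CategoryTheory Limits AlgebraicGeometry

namespace GrothLib.ModLoc8

open ModPair

/-- Blowing up in an ideal of finite type trivial on the interior is an admissible blow-up. -/
theorem exists_admBlowup_eff (W : Pair.{u}) (A : W.total.IdealSheafData)
    (hA : BlowUp.IsFiniteTypeIdeal A) (hle : W.mod ≤ A ∨ Disjoint (A.support : Set W.total) (interior W.mod)) :
    ∃ (W' : Pair.{u}) (s : W' ⟶ W), (ModPair.Pair.admBlowup.{u}) s ∧ BlowUp.IsEffCartierIdeal (A.comap s.hom) := by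
  have hdisj : interior W.mod ≤ A.support.compl := by
    rcases hle with h | h
    · exact fun x hx hxA => hx (Scheme.IdealSheafData.support_antitone h hxA)
    · exact fun x hx hxA => Set.disjoint_left.mp h hxA hx
  obtain ⟨Y, b, hb⟩ := GrothLib.BlowUp.exists_isBlowUp _ A
  haveI := GrothLib.BlowUp.isIso_off_center hb
  refine ⟨⟨Y, W.mod.comap b, GrothLib.BlowUp.isEffCartierIdeal_comap_blowUp hb W.isEffCartier⟩,
    ⟨b, le_refl _⟩, ⟨rfl, GrothLib.Nagata6.isProper_of_isBlowUp hA hb,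
      GrothLib.Nagata6.isIso_restrict_of_le b _ _ hdisj⟩, hb.1⟩

variable {P T X : Pair.{u}} (f : X ⟶ P) (g : T ⟶ P)
  {Y : Scheme.{u}} {π : Y ⟶ ModPair.mprod f.hom g.hom X.mod T.mod} {K : Y.IdealSheafData}
  (hY : ModPair.IsAmbProd f.hom g.hom X.mod T.mod π K) (hK : BlowUp.IsEffCartierIdeal K)
  (hX : ModPair.IsAmbient K X.mod (π ≫ ModPair.mprodι f.hom g.hom X.mod T.mod ≫ pullback.fst f.hom g.hom))
  (hT : ModPair.IsAmbient K T.mod (π ≫ ModPair.mprodι f.hom g.hom X.mod T.mod ≫ pullback.snd f.hom g.hom))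

/-- The projection to the first factor. -/
noncomputable abbrev prX : Pair.mk Y K hK ⟶ X := ⟨_, hX⟩

/-- The projection to the second factor. -/
noncomputable abbrev prT : Pair.mk Y K hK ⟶ T := ⟨_, hT⟩

include hY hK hX hT in
/-- Lifting to the ambient product when the pulled back centre is effective. -/
theorem exists_lift {W : Pair.{u}} (a : W ⟶ X) (b : W ⟶ T) (hab : a ≫ f = b ≫ g)
    (hE : BlowUp.IsEffCartierIdeal (X.mod.comap a.hom ⊔ T.mod.comap b.hom)) :
    ∃ h : W ⟶ Pair.mk Y K hK, h ≫ prX f g hK hX = a ∧ h ≫ prT f g hK hT = b := by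
  obtain ⟨hb, hKE⟩ := hY
  let m := ModPair.mprodι f.hom g.hom X.mod T.mod
  let l := pullback.lift a.hom b.hom (congrArg Pair.Hom.hom hab)
  have hl : m.ker ≤ l.ker := by
    rw [Scheme.IdealSheafData.ker_subschemeι]
    refine GrothLib.ModPair19.ker_le_of_interior W.isEffCartier _ l
      ((le_inf ?_ ?_ : _ ≤ (l ⁻¹ᵁ pullback.fst f.hom g.hom ⁻¹ᵁ ModPair.interior X.mod) ⊓
        (l ⁻¹ᵁ pullback.snd f.hom g.hom ⁻¹ᵁ ModPair.interior T.mod)).trans (le_of_eq rfl))
    · rw [← Scheme.Hom.comp_preimage, pullback.lift_fst]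
      exact GrothLib.ModPair19.interior_le_of_isAmbient a.cond
    · rw [← Scheme.Hom.comp_preimage, pullback.lift_snd]
      exact GrothLib.ModPair19.interior_le_of_isAmbient b.cond
  let c := IsClosedImmersion.lift m l hl
  have hc : c ≫ m = l := IsClosedImmersion.lift_fac _ _ _
  have hca : c ≫ m ≫ pullback.fst f.hom g.hom = a.hom := by rw [reassoc_of% hc]; exact pullback.lift_fst _ _ _
  have hcb : c ≫ m ≫ pullback.snd f.hom g.hom = b.hom := by rw [reassoc_of% hc]; exact pullback.lift_snd _ _ _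
  have hcE : (ModPair.prodCentre f.hom g.hom X.mod T.mod).comap c = X.mod.comap a.hom ⊔ T.mod.comap b.hom := by
    rw [ModPair.prodCentre, Scheme.IdealSheafData.comap_sup, ← Scheme.IdealSheafData.comap_comp,
      ← Scheme.IdealSheafData.comap_comp, hca, hcb]
  obtain ⟨h, hh, -⟩ := hb.2 _ c (hcE.symm ▸ hE)
  have hA : (X.mod.comap (m ≫ pullback.fst f.hom g.hom)).comap c = X.mod.comap a.hom := by
    rw [← Scheme.IdealSheafData.comap_comp, hca]
  have hB : (T.mod.comap (m ≫ pullback.snd f.hom g.hom)).comap c = T.mod.comap b.hom := by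
    rw [← Scheme.IdealSheafData.comap_comp, hcb]
  have hmul : K.comap h * (X.mod.comap a.hom ⊔ T.mod.comap b.hom) =
      X.mod.comap a.hom * T.mod.comap b.hom := by
    rw [← hcE, ← hA, ← hB, ← hh, Scheme.IdealSheafData.comap_comp _ h π,
      Scheme.IdealSheafData.comap_comp _ h π, Scheme.IdealSheafData.comap_comp _ h π,
      ← GrothLib.BlowUp.comap_mul, ← GrothLib.BlowUp.comap_mul]
    exact congrArg (fun I => Scheme.IdealSheafData.comap I h) hKE
  have hamb : ModPair.IsAmbient W.mod K h := by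
    refine GrothLib.RelDiv.le_of_mul_le_mul_left hE (fun U => ?_)
    have h1 := congrArg (fun I => Scheme.IdealSheafData.ideal I U) hmul
    simp only [Scheme.IdealSheafData.ideal_mul, Scheme.IdealSheafData.ideal_sup, Pi.mul_apply,
      Pi.sup_apply] at h1 ⊢
    rw [mul_comm _ ((K.comap h).ideal U), h1, Ideal.sup_mul]
    exact sup_le (Ideal.mul_mono_right (b.cond U))
      (by rw [mul_comm]; exact Ideal.mul_mono_left (a.cond U))
  refine ⟨⟨h, hamb⟩, Pair.Hom.ext ?_, Pair.Hom.ext ?_⟩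
  · show h ≫ π ≫ m ≫ pullback.fst f.hom g.hom = a.hom
    rw [reassoc_of% hh, hca]
  · show h ≫ π ≫ m ≫ pullback.snd f.hom g.hom = b.hom
    rw [reassoc_of% hh, hcb]

include hY hK hX hT in
/-- Morphisms into the ambient product are determined by the projections. -/
theorem hom_ext {W : Pair.{u}} {h₁ h₂ : W ⟶ Pair.mk Y K hK}
    (eX : h₁ ≫ prX f g hK hX = h₂ ≫ prX f g hK hX) (eT : h₁ ≫ prT f g hK hT = h₂ ≫ prT f g hK hT) :
    h₁ = h₂ := by
  obtain ⟨hb, hKE⟩ := hY
  let m := ModPair.mprodι f.hom g.hom X.mod T.mod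
  have e : h₁.hom ≫ π = h₂.hom ≫ π := by
    rw [← cancel_mono m]
    apply pullback.hom_ext
    · simp only [Category.assoc]; exact congrArg Pair.Hom.hom eX
    · simp only [Category.assoc]; exact congrArg Pair.Hom.hom eT
  have hA := Groth.Agent.S18731.result W.mod X.mod W.isEffCartier X.isEffCartier _ (h₁ ≫ prX f g hK hX).cond
  have hB := Groth.Agent.S18731.result W.mod T.mod W.isEffCartier T.isEffCartier _ (h₁ ≫ prT f g hK hT).cond
  have hmul : K.comap h₁.hom * ((ModPair.prodCentre f.hom g.hom X.mod T.mod).comap π).comap h₁.hom =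
      X.mod.comap (h₁ ≫ prX f g hK hX).hom * T.mod.comap (h₁ ≫ prT f g hK hT).hom := by
    rw [← GrothLib.BlowUp.comap_mul, hKE, GrothLib.BlowUp.comap_mul, ← Scheme.IdealSheafData.comap_comp,
      ← Scheme.IdealSheafData.comap_comp, ← Scheme.IdealSheafData.comap_comp, ← Scheme.IdealSheafData.comap_comp]
    rfl
  have hE := (GrothLib.BlowUp.isEffCartierIdeal_factors_of_mul
    (hmul ▸ GrothLib.BlowUp.isEffCartierIdeal_mul hA hB)).2
  rw [← Scheme.IdealSheafData.comap_comp] at hE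
  exact Pair.Hom.ext (GrothLib.BlowUp.hom_ext hb e hE)

include hY hK hX hT in
/-- A cone in modulus pairs lifts after an admissible blow-up. -/
theorem exists_lift_after {W : Pair.{u}} (a : W ⟶ X) (b : W ⟶ T) (hab : a ≫ f = b ≫ g) :
    ∃ (W' : Pair.{u}) (s : W' ⟶ W) (h : W' ⟶ Pair.mk Y K hK),
      (ModPair.Pair.admBlowup.{u}) s ∧ h ≫ prX f g hK hX = s ≫ a ∧ h ≫ prT f g hK hT = s ≫ b := by
  have hA := Groth.Agent.S18731.result W.mod X.mod W.isEffCartier X.isEffCartier _ a.cond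
  have hB := Groth.Agent.S18731.result W.mod T.mod W.isEffCartier T.isEffCartier _ b.cond
  obtain ⟨W', s, hs, hE⟩ := exists_admBlowup_eff W (X.mod.comap a.hom ⊔ T.mod.comap b.hom)
    (fun U => by
      rw [Scheme.IdealSheafData.ideal_sup, Pi.sup_apply]
      exact Submodule.FG.sup (GrothLib.RelDiv.fg_ideal_of_isEffCartier hA U)
        (GrothLib.RelDiv.fg_ideal_of_isEffCartier hB U))
    (Or.inl (le_trans a.cond le_sup_left))
  rw [Scheme.IdealSheafData.comap_sup, ← Scheme.IdealSheafData.comap_comp,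
    ← Scheme.IdealSheafData.comap_comp] at hE
  obtain ⟨h, h1, h2⟩ := exists_lift f g hY hK hX hT (s ≫ a) (s ≫ b)
    (by rw [Category.assoc, hab, Category.assoc]) hE
  exact ⟨W', s, h, hs, h1, h2⟩

/-- Two morphisms of the localization with the same source have a common denominator. -/
theorem exists_common_denominator {W A B : Pair.{u}} (φ : (ModPair.Pair.admBlowup.{u}).Q.obj W ⟶ (ModPair.Pair.admBlowup.{u}).Q.obj A)
    (ψ : (ModPair.Pair.admBlowup.{u}).Q.obj W ⟶ (ModPair.Pair.admBlowup.{u}).Q.obj B) :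
    ∃ (W' : Pair.{u}) (s : W' ⟶ W) (a : W' ⟶ A) (b : W' ⟶ B),
      (ModPair.Pair.admBlowup.{u}) s ∧ (ModPair.Pair.admBlowup.{u}).Q.map s ≫ φ = (ModPair.Pair.admBlowup.{u}).Q.map a ∧ (ModPair.Pair.admBlowup.{u}).Q.map s ≫ ψ = (ModPair.Pair.admBlowup.{u}).Q.map b := by
  haveI := Groth.Agent.S18738.result.{u}
  obtain ⟨r₁, h₁⟩ := Localization.exists_rightFraction (ModPair.Pair.admBlowup.{u}).Q (ModPair.Pair.admBlowup.{u}) φ
  obtain ⟨r₂, h₂⟩ := Localization.exists_rightFraction (ModPair.Pair.admBlowup.{u}).Q (ModPair.Pair.admBlowup.{u}) ψ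
  obtain ⟨r, hr⟩ := (MorphismProperty.LeftFraction.mk r₁.s r₂.s r₂.hs : (ModPair.Pair.admBlowup.{u}).LeftFraction r₁.X' r₂.X').exists_rightFraction
  refine ⟨r.X', r.s ≫ r₁.s, r.s ≫ r₁.f, r.f ≫ r₂.f, (ModPair.Pair.admBlowup.{u}).comp_mem _ _ r.hs r₁.hs, ?_, ?_⟩
  · rw [h₁, Functor.map_comp, Category.assoc, MorphismProperty.RightFraction.map_s_comp_map, Functor.map_comp]
  · rw [h₂, show r.s ≫ r₁.s = r.f ≫ r₂.s from hr, Functor.map_comp, Category.assoc,
      MorphismProperty.RightFraction.map_s_comp_map, Functor.map_comp]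

theorem isIso_map {A B : Pair.{u}} (s : A ⟶ B) (hs : (ModPair.Pair.admBlowup.{u}) s) : IsIso ((ModPair.Pair.admBlowup.{u}).Q.map s) :=
  Localization.inverts (ModPair.Pair.admBlowup.{u}).Q (ModPair.Pair.admBlowup.{u}) s hs

include hY hK hX hT in
/-- The ambient product is a fibre product in the localization. -/
theorem isPullback :
    IsPullback ((ModPair.Pair.admBlowup.{u}).Q.map (prT f g hK hT)) ((ModPair.Pair.admBlowup.{u}).Q.map (prX f g hK hX)) ((ModPair.Pair.admBlowup.{u}).Q.map g) ((ModPair.Pair.admBlowup.{u}).Q.map f) := by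
  haveI := Groth.Agent.S18738.result.{u}
  have hw : prT f g hK hT ≫ g = prX f g hK hX ≫ f := Pair.Hom.ext (by
    show (π ≫ _ ≫ pullback.snd f.hom g.hom) ≫ g.hom = (π ≫ _ ≫ pullback.fst f.hom g.hom) ≫ f.hom
    simp only [Category.assoc, pullback.condition])
  have w : (ModPair.Pair.admBlowup.{u}).Q.map (prT f g hK hT) ≫ (ModPair.Pair.admBlowup.{u}).Q.map g = (ModPair.Pair.admBlowup.{u}).Q.map (prX f g hK hX) ≫ (ModPair.Pair.admBlowup.{u}).Q.map f := by
    rw [← Functor.map_comp, ← Functor.map_comp, hw]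
  have hex : ∀ (Z : (ModPair.Pair.admBlowup.{u}).Localization) (p : Z ⟶ (ModPair.Pair.admBlowup.{u}).Q.obj T) (q : Z ⟶ (ModPair.Pair.admBlowup.{u}).Q.obj X),
      p ≫ (ModPair.Pair.admBlowup.{u}).Q.map g = q ≫ (ModPair.Pair.admBlowup.{u}).Q.map f →
      ∃! h : Z ⟶ (ModPair.Pair.admBlowup.{u}).Q.obj (Pair.mk Y K hK),
        h ≫ (ModPair.Pair.admBlowup.{u}).Q.map (prT f g hK hT) = p ∧ h ≫ (ModPair.Pair.admBlowup.{u}).Q.map (prX f g hK hX) = q := by
    intro Z p q hpq
    obtain ⟨W, rfl⟩ := (Localization.Construction.objEquiv (ModPair.Pair.admBlowup.{u})).surjective Z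
    obtain ⟨W', s, a, b, hs, ha, hb⟩ := exists_common_denominator q p
    obtain ⟨W'', t, ht, htf⟩ : ∃ (W'' : Pair.{u}) (t : W'' ⟶ W') (_ : (ModPair.Pair.admBlowup.{u}) t), t ≫ (a ≫ f) = t ≫ (b ≫ g) :=
      (MorphismProperty.map_eq_iff_precomp (ModPair.Pair.admBlowup.{u}).Q (ModPair.Pair.admBlowup.{u}) _ _).mp (by
        rw [Functor.map_comp, Functor.map_comp, ← ha, ← hb, Category.assoc, Category.assoc]
        exact congrArg (_ ≫ ·) hpq.symm)
    obtain ⟨W₃, r, h, hr, h1, h2⟩ := exists_lift_after f g hY hK hX hT (t ≫ a) (t ≫ b)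
      (by rw [Category.assoc, Category.assoc, htf])
    haveI := isIso_map s hs
    haveI := isIso_map t ht
    haveI := isIso_map r hr
    refine ⟨inv ((ModPair.Pair.admBlowup.{u}).Q.map s) ≫ inv ((ModPair.Pair.admBlowup.{u}).Q.map t) ≫ inv ((ModPair.Pair.admBlowup.{u}).Q.map r) ≫ (ModPair.Pair.admBlowup.{u}).Q.map h, ⟨?_, ?_⟩, ?_⟩
    · simp only [Category.assoc, IsIso.inv_comp_eq]
      rw [← Functor.map_comp, h2, Functor.map_comp, Functor.map_comp, ← hb]
    · simp only [Category.assoc, IsIso.inv_comp_eq]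
      rw [← Functor.map_comp, h1, Functor.map_comp, Functor.map_comp, ← ha]
    · rintro φ ⟨hφT, hφX⟩
      -- compare `φ` with the lift on a common refinement
      set ψ := inv ((ModPair.Pair.admBlowup.{u}).Q.map s) ≫ inv ((ModPair.Pair.admBlowup.{u}).Q.map t) ≫ inv ((ModPair.Pair.admBlowup.{u}).Q.map r) ≫ (ModPair.Pair.admBlowup.{u}).Q.map h
      obtain ⟨V, v, a₁, a₂, hv, ha₁, ha₂⟩ := exists_common_denominator φ ψ
      have eT : (ModPair.Pair.admBlowup.{u}).Q.map (a₁ ≫ prT f g hK hT) = (ModPair.Pair.admBlowup.{u}).Q.map (a₂ ≫ prT f g hK hT) := by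
        rw [Functor.map_comp, Functor.map_comp, ← ha₁, ← ha₂, Category.assoc, Category.assoc, hφT]
        congr 1
        simp only [ψ, Category.assoc]
        rw [eq_comm, IsIso.inv_comp_eq, IsIso.inv_comp_eq, IsIso.inv_comp_eq, ← Functor.map_comp, h2,
          Functor.map_comp, Functor.map_comp, ← hb]
      have eX : (ModPair.Pair.admBlowup.{u}).Q.map (a₁ ≫ prX f g hK hX) = (ModPair.Pair.admBlowup.{u}).Q.map (a₂ ≫ prX f g hK hX) := by
        rw [Functor.map_comp, Functor.map_comp, ← ha₁, ← ha₂, Category.assoc, Category.assoc, hφX]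
        congr 1
        simp only [ψ, Category.assoc]
        rw [eq_comm, IsIso.inv_comp_eq, IsIso.inv_comp_eq, IsIso.inv_comp_eq, ← Functor.map_comp, h1,
          Functor.map_comp, Functor.map_comp, ← ha]
      obtain ⟨V₁, v₁, hv₁, e₁⟩ := (MorphismProperty.map_eq_iff_precomp (ModPair.Pair.admBlowup.{u}).Q (ModPair.Pair.admBlowup.{u}) _ _).mp eT
      have eX' : (ModPair.Pair.admBlowup.{u}).Q.map (v₁ ≫ a₁ ≫ prX f g hK hX) = (ModPair.Pair.admBlowup.{u}).Q.map (v₁ ≫ a₂ ≫ prX f g hK hX) := by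
        rw [Functor.map_comp, eX, ← Functor.map_comp]
      obtain ⟨V₂, v₂, hv₂, e₂⟩ := (MorphismProperty.map_eq_iff_precomp (ModPair.Pair.admBlowup.{u}).Q (ModPair.Pair.admBlowup.{u}) _ _).mp eX'
      have e : v₂ ≫ v₁ ≫ a₁ = v₂ ≫ v₁ ≫ a₂ := hom_ext f g hY hK hX hT
        (by simpa only [Category.assoc] using e₂)
        (by simpa only [Category.assoc] using congrArg (v₂ ≫ ·) e₁)
      haveI := isIso_map v hv
      haveI := isIso_map v₁ hv₁
      haveI := isIso_map v₂ hv₂
      rw [← cancel_epi ((ModPair.Pair.admBlowup.{u}).Q.map v), ha₁, ha₂, ← cancel_epi ((ModPair.Pair.admBlowup.{u}).Q.map v₁), ← cancel_epi ((ModPair.Pair.admBlowup.{u}).Q.map v₂),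
        ← Functor.map_comp, ← Functor.map_comp, ← Functor.map_comp, ← Functor.map_comp, e]
  refine IsPullback.of_isLimit (c := PullbackCone.mk _ _ w) (PullbackCone.IsLimit.mk w
    (fun S => (hex S.pt S.fst S.snd S.condition).exists.choose)
    (fun S => (hex S.pt S.fst S.snd S.condition).exists.choose_spec.1)
    (fun S => (hex S.pt S.fst S.snd S.condition).exists.choose_spec.2)
    fun S m h1 h2 => ?_)
  exact (hex S.pt S.fst S.snd S.condition).unique ⟨h1, h2⟩
    (hex S.pt S.fst S.snd S.condition).exists.choose_spec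

end GrothLib.ModLoc8
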