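import Groth.Agent.Lib.ModLoc8.Basic
import Groth.Agent.Lib.ModLim8.PairLimit
import Groth.Agent.Lib.ModLim8.Pull
import Groth.Agent.Lib.ModLim8.Blowup
import Groth.Agent.Lib.ModLim8.Hom
import Groth.Agent.S18745
import Mathlib.CategoryTheory.Limits.Constructions.Over.Connected

/-!
# Morphisms out of a limit in the localized category of modulus pairs
-/

set_option autoImplicit false
set_option backward.isDefEq.respectTransparency false
universe u
set_option maxHeartbeats 800000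

open CategoryTheory Limits AlgebraicGeometry

noncomputable section

namespace GrothLib.ModLoc8

open ModPair GrothLib.ModLim8

variable {I : Type u} [SmallCategory I] {P : I ⥤ Pair.{u}} {p : Cone P}

/-- A system of pairs with compatible maps to a scheme, as a system over that scheme. -/
def overSys {B : Scheme.{u}} (β : ∀ j, (P.obj j).total ⟶ B)
    (hβ : ∀ {j k : I} (t : j ⟶ k), (P.map t).hom ≫ β k = β j) : I ⥤ Over B where
  obj j := Over.mk (β j)
  map t := Over.homMk (P.map t).hom (hβ t)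
  map_id j := Over.OverMorphism.ext (congrArg Pair.Hom.hom (P.map_id j))
  map_comp a b := Over.OverMorphism.ext (congrArg Pair.Hom.hom (P.map_comp a b))

/-- Its cone. -/
def overCone {B : Scheme.{u}} (β : ∀ j, (P.obj j).total ⟶ B)
    (hβ : ∀ {j k : I} (t : j ⟶ k), (P.map t).hom ≫ β k = β j) (βp : p.pt.total ⟶ B)
    (hβp : ∀ j, (p.π.app j).hom ≫ β j = βp) : Cone (overSys β hβ) where
  pt := Over.mk βp
  π :=
    { app := fun j => Over.homMk (p.π.app j).hom (hβp j)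
      naturality := fun _ _ t => Over.OverMorphism.ext
        ((Category.id_comp _).trans (congrArg Pair.Hom.hom (p.w t)).symm) }

theorem isLimit_overCone [IsCofiltered I] (hl : IsLimit (Pair.forget.mapCone p)) {B : Scheme.{u}}
    (β : ∀ j, (P.obj j).total ⟶ B) (hβ : ∀ {j k : I} (t : j ⟶ k), (P.map t).hom ≫ β k = β j)
    (βp : p.pt.total ⟶ B) (hβp : ∀ j, (p.π.app j).hom ≫ β j = βp) :
    Nonempty (IsLimit (overCone β hβ βp hβp)) := by
  haveI : IsConnected I := IsCofiltered.isConnected I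
  have h : IsLimit ((Over.forget B).mapCone (overCone β hβ βp hβp)) :=
    IsLimit.ofIsoLimit hl (Cone.ext (Iso.refl _) fun j => (Category.id_comp _).symm)
  exact ⟨isLimitOfReflects (Over.forget B) h⟩

/-- Closures of corresponding opens under an isomorphism are isomorphic. -/
theorem exists_closure_iso {A B : Scheme.{u}} (σ : A ≅ B) (O : A.Opens) (O' : B.Opens)
    (h : σ.hom ⁻¹ᵁ O' = O) :
    ∃ ε : O.ι.image ≅ O'.ι.image, ε.hom ≫ O'.ι.imageι = O.ι.imageι ≫ σ.hom := by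
  have key : ∀ {A B : Scheme.{u}} (f : A ⟶ B) (O : A.Opens) (O' : B.Opens), O ≤ f ⁻¹ᵁ O' →
      ∃ l : O.ι.image ⟶ O'.ι.image, l ≫ O'.ι.imageι = O.ι.imageι ≫ f := by
    intro A B f O O' hle
    refine ⟨IsClosedImmersion.lift O'.ι.imageι (O.ι.imageι ≫ f) ?_, IsClosedImmersion.lift_fac _ _ _⟩
    rw [Scheme.IdealSheafData.ker_subschemeι, ← Scheme.IdealSheafData.map_ker,
      Scheme.IdealSheafData.ker_subschemeι, Scheme.IdealSheafData.map_ker]
    have e : (A.homOfLE hle ≫ (f ∣_ O')) ≫ O'.ι = O.ι ≫ f := by simp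
    rw [← e]
    exact Scheme.Hom.le_ker_comp _ _
  obtain ⟨l, hl⟩ := key σ.hom O O' h.ge
  obtain ⟨m, hm⟩ := key σ.inv O' O (le_of_eq (by
    rw [← h, ← Scheme.Hom.comp_preimage, σ.inv_hom_id]; rfl))
  refine ⟨⟨l, m, ?_, ?_⟩, hl⟩
  · rw [← cancel_mono O.ι.imageι, Category.assoc, hm, reassoc_of% hl, σ.hom_inv_id, Category.comp_id,
      Category.id_comp]
  · rw [← cancel_mono O'.ι.imageι, Category.assoc, hl, reassoc_of% hm, σ.inv_hom_id, Category.comp_id,
      Category.id_comp]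

/-- An isomorphism of total spaces with equal moduli is an admissible blow-up. -/
theorem admBlowup_of_isIso {W W' : Pair.{u}} (f : W ⟶ W') [IsIso f.hom]
    (h : W'.mod.comap f.hom ≤ W.mod) : Pair.admBlowup.{u} f :=
  ⟨le_antisymm f.cond h, inferInstance,
    IsZariskiLocalAtTarget.restrict (P := MorphismProperty.isomorphisms Scheme.{u})
      (inferInstanceAs (IsIso f.hom)) _⟩

variable [IsCofiltered I] (hP : MinSystem P p)

include hP in
/-- An admissible blow-up of the limit is isomorphic to the limit of a pullback system. -/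
theorem exists_pull (W : Pair.{u}) (s : W ⟶ p.pt) (hs : Pair.admBlowup.{u} s) :
    ∃ (i : I) (R : Pair.{u}) (r : R ⟶ P.obj i) (_ : Pair.admBlowup.{u} r)
      (ε : W ⟶ pullPt r (p := p)), Pair.admBlowup.{u} ε ∧ IsIso ε.hom ∧ ε ≫ pullPtDown r = s := by
  haveI : ∀ (a b : I) (t : a ⟶ b), IsAffineHom ((P ⋙ Pair.forget).map t) := hP.affine
  haveI : ∀ a, CompactSpace ((P ⋙ Pair.forget).obj a) := hP.compact
  haveI : ∀ a, QuasiSeparatedSpace ((P ⋙ Pair.forget).obj a) := hP.qs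
  obtain ⟨hl⟩ := hP.limit
  have hsm : W.mod = p.pt.mod.comap s.hom := hs.1
  obtain ⟨i, Yi, IYi, si, hIYi, hsi, e, he⟩ := GrothLib.ModLim8.exists_descend_admBlowup
    (P ⋙ Pair.forget) (Pair.forget.mapCone p) hl (fun a => (P.obj a).mod)
    (fun a => (P.obj a).isEffCartier) hP.minimal p.pt.mod hP.minimal_π s.hom (hsm ▸ W.isEffCartier)
    ⟨rfl, hs.2⟩
  let R : Pair.{u} := ⟨Yi, IYi, hIYi⟩
  let r : R ⟶ P.obj i := ⟨si, le_of_eq hsi.1⟩
  let σ := pullbackSymmetry (p.π.app i).hom si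
  obtain ⟨δ, hδ⟩ := exists_closure_iso σ (prodInterior (p.π.app i).hom si p.pt.mod IYi)
    (prodInterior si (p.π.app i).hom IYi p.pt.mod) (by
      show (σ.hom ⁻¹ᵁ (pullback.fst si (p.π.app i).hom ⁻¹ᵁ interior IYi)) ⊓
        (σ.hom ⁻¹ᵁ (pullback.snd si (p.π.app i).hom ⁻¹ᵁ interior p.pt.mod)) = _
      rw [← Scheme.Hom.comp_preimage, ← Scheme.Hom.comp_preimage, pullbackSymmetry_hom_comp_fst,
        pullbackSymmetry_hom_comp_snd, inf_comm]
      rfl)
  have hq : (e.hom ≫ δ.hom) ≫ (pullPtDown r (p := p)).hom = s.hom := by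
    show (e.hom ≫ δ.hom) ≫ mprodι si (p.π.app i).hom IYi p.pt.mod ≫ pullback.snd si (p.π.app i).hom = _
    rw [Category.assoc, reassoc_of% hδ, pullbackSymmetry_hom_comp_snd]
    exact he
  have hmod : (pullPt r (p := p)).mod.comap (e.hom ≫ δ.hom) = W.mod := by
    show (p.pt.mod.comap (pullPtDown r (p := p)).hom).comap _ = _
    rw [← Scheme.IdealSheafData.comap_comp, hq, hsm]
  let ε : W ⟶ pullPt r (p := p) := ⟨e.hom ≫ δ.hom, hmod.ge⟩
  haveI : IsIso ε.hom := inferInstanceAs (IsIso (e.hom ≫ δ.hom))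
  exact ⟨i, R, r, hsi, ε, admBlowup_of_isIso ε hmod.le, inferInstance, Pair.Hom.ext hq⟩

variable {S : Pair.{u}} (β : ∀ j, P.obj j ⟶ S) (hβ : ∀ {j k : I} (t : j ⟶ k), P.map t ≫ β k = β j)
  (βp : p.pt ⟶ S) (hβp : ∀ j, p.π.app j ≫ β j = βp) (Y : Pair.{u}) (y : Y ⟶ S)
  [CompactSpace Y.total] [QuasiSeparatedSpace Y.total] [LocallyOfFiniteType y.hom]

include hP hβ hβp in
/-- Morphisms of the localization out of the limit come from a stage. -/
theorem exists_stage_map [CompactSpace S.total] [QuasiSeparatedSpace S.total]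
    (h : (∀ (a b : I) (t : a ⟶ b), IsSchemeTheoreticallyDominant (P.map t).hom) ∨
      LocallyOfFinitePresentation y.hom)
    (φ : (Pair.admBlowup.{u}).Q.obj p.pt ⟶ (Pair.admBlowup.{u}).Q.obj Y)
    (hφ : φ ≫ (Pair.admBlowup.{u}).Q.map y = (Pair.admBlowup.{u}).Q.map βp) :
    ∃ (i : I) (φi : (Pair.admBlowup.{u}).Q.obj (P.obj i) ⟶ (Pair.admBlowup.{u}).Q.obj Y),
      φi ≫ (Pair.admBlowup.{u}).Q.map y = (Pair.admBlowup.{u}).Q.map (β i) ∧
        (Pair.admBlowup.{u}).Q.map (p.π.app i) ≫ φi = φ := by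
  haveI := Groth.Agent.S18738.result.{u}
  obtain ⟨W₀, s₀, a₀, -, hs₀, ha₀, -⟩ := exists_common_denominator φ φ
  obtain ⟨W, t, ht, htw⟩ : ∃ (W : Pair.{u}) (t : W ⟶ W₀) (_ : Pair.admBlowup.{u} t),
      t ≫ (a₀ ≫ y) = t ≫ (s₀ ≫ βp) :=
    (MorphismProperty.map_eq_iff_precomp (Pair.admBlowup.{u}).Q Pair.admBlowup.{u} _ _).mp (by
      rw [Functor.map_comp, ← ha₀, Category.assoc, hφ, ← Functor.map_comp])
  have hs : Pair.admBlowup.{u} (t ≫ s₀) := (Pair.admBlowup.{u}).comp_mem _ _ ht hs₀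
  obtain ⟨i, R, r, hr, ε, hε, hεi, hεs⟩ := exists_pull hP W (t ≫ s₀) hs
  haveI := hεi
  -- the map on the limit of the pullback system
  let εi : pullPt r (p := p) ⟶ W := ⟨inv ε.hom, by
    show _ ≤ W.mod.comap _
    rw [show W.mod = (pullPt r (p := p)).mod.comap ε.hom from hε.1, ← Scheme.IdealSheafData.comap_comp,
      IsIso.inv_hom_id, Scheme.IdealSheafData.comap_id]⟩
  have hεε : ε ≫ εi = 𝟙 W := Pair.Hom.ext (IsIso.hom_inv_id ε.hom)
  haveI hεQ := isIso_map ε hε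
  let a' : pullPt r (p := p) ⟶ Y := εi ≫ t ≫ a₀
  let T := pullSys hP r
  let βT : ∀ j : Over i, T.obj j ⟶ S := fun j => pullDown hP r j ≫ β j.left
  have hβT : ∀ {j k : Over i} (ψ : j ⟶ k), T.map ψ ≫ βT k = βT j := fun {j k} ψ => by
    show T.map ψ ≫ pullDown hP r k ≫ β k.left = pullDown hP r j ≫ β j.left
    rw [reassoc_of% (pullDown_naturality hP r ψ), hβ]
  have hβTp : ∀ j, (pullCone hP r).π.app j ≫ βT j = pullPtDown r ≫ βp := fun j => by
    show (pullCone hP r).π.app j ≫ pullDown hP r j ≫ β j.left = _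
    rw [reassoc_of% (pullCone_down hP r j), hβp]
  have hsys := minSystem_pull hP r hr
  obtain ⟨hlim⟩ := hsys.limit
  let β₀ : ∀ j : Over i, (T.obj j).total ⟶ S.total := fun j => (βT j).hom
  have hβ₀ : ∀ {j k : Over i} (ψ : j ⟶ k), (T.map ψ).hom ≫ β₀ k = β₀ j :=
    fun ψ => congrArg Pair.Hom.hom (hβT ψ)
  obtain ⟨hO⟩ := isLimit_overCone (p := pullCone hP r) hlim β₀ hβ₀ (pullPtDown r ≫ βp).hom
    (fun j => congrArg Pair.Hom.hom (hβTp j))
  have ha' : a' ≫ y = pullPtDown r ≫ βp := by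
    have h1 : εi ≫ ε = 𝟙 _ := Pair.Hom.ext (IsIso.inv_hom_id ε.hom)
    calc a' ≫ y = εi ≫ t ≫ a₀ ≫ y := by simp only [a', Category.assoc]
      _ = εi ≫ (t ≫ s₀) ≫ βp := by rw [htw, Category.assoc]
      _ = _ := by rw [← hεs, Category.assoc, reassoc_of% h1]
  haveI : ∀ (j k : Over i) (ψ : j ⟶ k), IsAffineHom ((overSys β₀ hβ₀).map ψ).left :=
    fun j k ψ => hsys.affine j k ψ
  haveI : ∀ j, CompactSpace ((overSys β₀ hβ₀).obj j).left := hsys.compact
  haveI : ∀ j, QuasiSeparatedSpace ((overSys β₀ hβ₀).obj j).left := hsys.qs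
  haveI : LocallyOfFiniteType (Over.mk y.hom).hom := ‹LocallyOfFiniteType y.hom›
  haveI : CompactSpace (Over.mk y.hom).left := ‹CompactSpace Y.total›
  haveI : QuasiSeparatedSpace (Over.mk y.hom).left := ‹QuasiSeparatedSpace Y.total›
  obtain ⟨k, φk, hamb, hφk⟩ := Groth.Agent.S18745.result (overSys β₀ hβ₀)
    (overCone (p := pullCone hP r) β₀ hβ₀ (pullPtDown r ≫ βp).hom (fun j => congrArg Pair.Hom.hom (hβTp j))) hO
    (fun j => (T.obj j).mod) (fun j => (T.obj j).isEffCartier) hsys.minimal (pullPt r (p := p)).mod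
    hsys.minimal_π (Over.mk y.hom) Y.mod Y.isEffCartier
    (h.imp (fun hd j k ψ => dominant_pullSys hP r hr hd ψ) id)
    (Over.homMk a'.hom (congrArg Pair.Hom.hom ha')) a'.cond
  let fk : T.obj k ⟶ Y := ⟨φk.left, hamb⟩
  have hfk : fk ≫ y = βT k := Pair.Hom.ext (Over.w φk)
  have hπfk : (pullCone hP r).π.app k ≫ fk = a' := Pair.Hom.ext (congrArg CommaMorphism.left hφk)
  haveI := isIso_map (pullDown hP r k) (admBlowup_pullDown hP r hr k)
  haveI := isIso_map (pullPtDown r (p := p)) (admBlowup_pullPtDown r hr)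
  refine ⟨k.left, inv ((Pair.admBlowup.{u}).Q.map (pullDown hP r k)) ≫ (Pair.admBlowup.{u}).Q.map fk, ?_, ?_⟩
  · rw [Category.assoc, ← Functor.map_comp, hfk, IsIso.inv_comp_eq, ← Functor.map_comp]
  · rw [← cancel_epi ((Pair.admBlowup.{u}).Q.map (pullPtDown r (p := p))), ← Functor.map_comp_assoc,
      ← pullCone_down hP r k, Functor.map_comp, Category.assoc, IsIso.hom_inv_id_assoc, ← Functor.map_comp,
      hπfk, ← cancel_epi ((Pair.admBlowup.{u}).Q.map ε), ← Functor.map_comp_assoc, hεs,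
      Functor.map_comp _ t s₀, Category.assoc, ha₀, ← Functor.map_comp, ← Functor.map_comp]
    congr 1
    simp only [a']
    rw [reassoc_of% hεε]

include hP hβ hβp in
/-- Morphisms from a stage that agree on an admissible blow-up of the limit become equal in the
localization at a later stage. -/
theorem exists_stage_map_eq {i : I} (A B : P.obj i ⟶ Y) (hA : A ≫ y = β i) (hB : B ≫ y = β i)
    (W : Pair.{u}) (ρ : W ⟶ p.pt) (hρ : Pair.admBlowup.{u} ρ)
    (he : ρ ≫ p.π.app i ≫ A = ρ ≫ p.π.app i ≫ B) :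
    ∃ (j : I) (t : j ⟶ i),
      (Pair.admBlowup.{u}).Q.map (P.map t ≫ A) = (Pair.admBlowup.{u}).Q.map (P.map t ≫ B) := by
  obtain ⟨k, R, r, hr, ε, hε, hεi, hεs⟩ := exists_pull hP W ρ hρ
  haveI := hεi
  let l₀ : Over k := Over.mk (IsCofiltered.minToLeft k i)
  let u₀ : l₀.left ⟶ i := IsCofiltered.minToRight k i
  let βU : ∀ l : Over k, (pullSys hP r).obj l ⟶ S := fun l => pullDown hP r l ≫ β l.left
  have hβU : ∀ {l m : Over k} (ψ : l ⟶ m), (pullSys hP r).map ψ ≫ βU m = βU l := fun {l m} ψ => by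
    show (pullSys hP r).map ψ ≫ pullDown hP r m ≫ _ = pullDown hP r l ≫ _
    rw [reassoc_of% (pullDown_naturality hP r ψ), hβ]
  have hβUp : ∀ l, (pullCone hP r).π.app l ≫ βU l = pullPtDown r ≫ βp := fun l => by
    show (pullCone hP r).π.app l ≫ pullDown hP r l ≫ _ = _
    rw [reassoc_of% (pullCone_down hP r l), hβp]
  have hsys := minSystem_pull hP r hr
  obtain ⟨hlim⟩ := hsys.limit
  let β₂ : ∀ l : Over k, ((pullSys hP r).obj l).total ⟶ S.total := fun l => (βU l).hom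
  have hβ₂ : ∀ {l m : Over k} (ψ : l ⟶ m), ((pullSys hP r).map ψ).hom ≫ β₂ m = β₂ l :=
    fun ψ => congrArg Pair.Hom.hom (hβU ψ)
  obtain ⟨hO⟩ := isLimit_overCone (p := pullCone hP r) hlim β₂ hβ₂ (pullPtDown r ≫ βp).hom
    (fun l => congrArg Pair.Hom.hom (hβUp l))
  haveI : ∀ (l m : Over k) (ψ : l ⟶ m), IsAffineHom ((overSys β₂ hβ₂).map ψ).left :=
    fun l m ψ => hsys.affine l m ψ
  haveI : ∀ l, CompactSpace ((overSys β₂ hβ₂).obj l).left := hsys.compact
  haveI : ∀ l, QuasiSeparatedSpace ((overSys β₂ hβ₂).obj l).left := hsys.qs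
  haveI : LocallyOfFiniteType (Over.mk y.hom).hom := ‹LocallyOfFiniteType y.hom›
  let g : (pullSys hP r).obj l₀ ⟶ P.obj i := pullDown hP r l₀ ≫ P.map u₀
  have hgA : (g ≫ A) ≫ y = βU l₀ := by
    show ((pullDown hP r l₀ ≫ P.map u₀) ≫ A) ≫ y = pullDown hP r l₀ ≫ β l₀.left
    rw [Category.assoc, hA, Category.assoc, hβ]
  have hgB : (g ≫ B) ≫ y = βU l₀ := by
    show ((pullDown hP r l₀ ≫ P.map u₀) ≫ B) ≫ y = pullDown hP r l₀ ≫ β l₀.left
    rw [Category.assoc, hB, Category.assoc, hβ]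
  have hlimeq : (pullCone hP r).π.app l₀ ≫ g ≫ A = (pullCone hP r).π.app l₀ ≫ g ≫ B := by
    have h1 : (pullCone hP r).π.app l₀ ≫ g = pullPtDown r ≫ p.π.app i := by
      show _ ≫ pullDown hP r l₀ ≫ P.map u₀ = _
      rw [reassoc_of% (pullCone_down hP r l₀), p.w]
    rw [reassoc_of% h1, reassoc_of% h1]
    apply Pair.Hom.ext
    rw [← cancel_epi ε.hom]
    refine congrArg Pair.Hom.hom (show ε ≫ pullPtDown r ≫ p.π.app i ≫ A = ε ≫ pullPtDown r ≫ p.π.app i ≫ B from ?_)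
    rw [reassoc_of% hεs, reassoc_of% hεs]
    exact he
  obtain ⟨l, τ, hτ⟩ := GrothLib.ModLim8.exists_hom_eq (overSys β₂ hβ₂)
    (overCone (p := pullCone hP r) β₂ hβ₂ (pullPtDown r ≫ βp).hom
      (fun l => congrArg Pair.Hom.hom (hβUp l))) hO (Over.mk y.hom) (i := l₀)
    (Over.homMk (g ≫ A).hom (congrArg Pair.Hom.hom hgA))
    (Over.homMk (g ≫ B).hom (congrArg Pair.Hom.hom hgB))
    (Over.OverMorphism.ext (congrArg Pair.Hom.hom hlimeq))
  have hτ' : (pullSys hP r).map τ ≫ g ≫ A = (pullSys hP r).map τ ≫ g ≫ B :=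
    Pair.Hom.ext (congrArg CommaMorphism.left hτ)
  have hg' : (pullSys hP r).map τ ≫ g = pullDown hP r l ≫ P.map (τ.left ≫ u₀) := by
    show _ ≫ pullDown hP r l₀ ≫ P.map u₀ = _
    rw [reassoc_of% (pullDown_naturality hP r τ), Functor.map_comp]
  rw [reassoc_of% hg', reassoc_of% hg'] at hτ'
  haveI := isIso_map (pullDown hP r l) (admBlowup_pullDown hP r hr l)
  refine ⟨l.left, τ.left ≫ u₀, ?_⟩
  rw [← cancel_epi ((Pair.admBlowup.{u}).Q.map (pullDown hP r l)), ← Functor.map_comp,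
    ← Functor.map_comp _ (pullDown hP r l) (P.map (τ.left ≫ u₀) ≫ B), hτ']

include hP hβ hβp in
/-- Morphisms out of a stage that agree on the limit agree on a later stage. -/
theorem exists_stage_eq {i₀ : I} (φ ψ : (Pair.admBlowup.{u}).Q.obj (P.obj i₀) ⟶ (Pair.admBlowup.{u}).Q.obj Y)
    (hφ : φ ≫ (Pair.admBlowup.{u}).Q.map y = (Pair.admBlowup.{u}).Q.map (β i₀))
    (hψ : ψ ≫ (Pair.admBlowup.{u}).Q.map y = (Pair.admBlowup.{u}).Q.map (β i₀))
    (heq : (Pair.admBlowup.{u}).Q.map (p.π.app i₀) ≫ φ = (Pair.admBlowup.{u}).Q.map (p.π.app i₀) ≫ ψ) :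
    ∃ (j : I) (t : j ⟶ i₀),
      (Pair.admBlowup.{u}).Q.map (P.map t) ≫ φ = (Pair.admBlowup.{u}).Q.map (P.map t) ≫ ψ := by
  haveI := Groth.Agent.S18738.result.{u}
  obtain ⟨W₀, s₀, a₀, b₀, hs₀, ha₀, hb₀⟩ := exists_common_denominator φ ψ
  obtain ⟨W₁, t₁, ht₁, hw₁⟩ : ∃ (W : Pair.{u}) (t : W ⟶ W₀) (_ : Pair.admBlowup.{u} t),
      t ≫ (a₀ ≫ y) = t ≫ (s₀ ≫ β i₀) :=
    (MorphismProperty.map_eq_iff_precomp (Pair.admBlowup.{u}).Q Pair.admBlowup.{u} _ _).mp (by
      rw [Functor.map_comp, ← ha₀, Category.assoc, hφ, ← Functor.map_comp])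
  obtain ⟨R, t₂, ht₂, hw₂⟩ : ∃ (W : Pair.{u}) (t : W ⟶ W₁) (_ : Pair.admBlowup.{u} t),
      t ≫ (t₁ ≫ b₀ ≫ y) = t ≫ (t₁ ≫ s₀ ≫ β i₀) :=
    (MorphismProperty.map_eq_iff_precomp (Pair.admBlowup.{u}).Q Pair.admBlowup.{u} _ _).mp (by
      rw [Functor.map_comp, Functor.map_comp, ← hb₀, Category.assoc, hψ, ← Functor.map_comp,
        ← Functor.map_comp])
  let r : R ⟶ P.obj i₀ := t₂ ≫ t₁ ≫ s₀
  let a := t₂ ≫ t₁ ≫ a₀
  let b := t₂ ≫ t₁ ≫ b₀
  have hr : Pair.admBlowup.{u} r :=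
    (Pair.admBlowup.{u}).comp_mem _ _ ht₂ ((Pair.admBlowup.{u}).comp_mem _ _ ht₁ hs₀)
  have hay : a ≫ y = r ≫ β i₀ := by
    show (t₂ ≫ t₁ ≫ a₀) ≫ y = (t₂ ≫ t₁ ≫ s₀) ≫ β i₀
    simp only [Category.assoc, hw₁]
  have hby : b ≫ y = r ≫ β i₀ := by
    show (t₂ ≫ t₁ ≫ b₀) ≫ y = (t₂ ≫ t₁ ≫ s₀) ≫ β i₀
    simp only [Category.assoc]
    exact hw₂
  have haQ : (Pair.admBlowup.{u}).Q.map r ≫ φ = (Pair.admBlowup.{u}).Q.map a := by
    simp only [r, a, Functor.map_comp, Category.assoc, ha₀]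
  have hbQ : (Pair.admBlowup.{u}).Q.map r ≫ ψ = (Pair.admBlowup.{u}).Q.map b := by
    simp only [r, b, Functor.map_comp, Category.assoc, hb₀]
  let T := pullSys hP r
  have hsys := minSystem_pull hP r hr
  let top : Over i₀ := Over.mk (𝟙 i₀)
  let f : pullPt r (p := p) ⟶ R := (pullCone hP r).π.app top ≫ pullTo hP r hr top
  have hf : f ≫ r = pullPtDown r ≫ p.π.app i₀ := by
    show ((pullCone hP r).π.app top ≫ pullTo hP r hr top) ≫ r = _
    rw [Category.assoc, pullTo_comp hP r hr top, reassoc_of% (pullCone_down hP r top), p.w]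
  obtain ⟨W', ρ, hρ, hρe⟩ : ∃ (W : Pair.{u}) (ρ : W ⟶ pullPt r (p := p)) (_ : Pair.admBlowup.{u} ρ),
      ρ ≫ (f ≫ a) = ρ ≫ (f ≫ b) :=
    (MorphismProperty.map_eq_iff_precomp (Pair.admBlowup.{u}).Q Pair.admBlowup.{u} _ _).mp (by
      rw [Functor.map_comp _ f a, Functor.map_comp _ f b, ← haQ, ← hbQ, ← Functor.map_comp_assoc,
        ← Functor.map_comp_assoc, hf, Functor.map_comp _ (pullPtDown r) (p.π.app i₀), Category.assoc,
        Category.assoc, heq])
  let βT : ∀ j : Over i₀, (pullSys hP r).obj j ⟶ S := fun j => pullDown hP r j ≫ β j.left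
  have hTa : (pullTo hP r hr top ≫ a) ≫ y = βT top := by
    rw [Category.assoc, hay, reassoc_of% (pullTo_comp hP r hr top), hβ]
  have hTb : (pullTo hP r hr top ≫ b) ≫ y = βT top := by
    rw [Category.assoc, hby, reassoc_of% (pullTo_comp hP r hr top), hβ]
  obtain ⟨l, τ, hτ⟩ := exists_stage_map_eq (P := pullSys hP r) (p := pullCone hP r) hsys βT
    (fun {j k} ψ => by
      show (pullSys hP r).map ψ ≫ pullDown hP r k ≫ _ = pullDown hP r j ≫ _
      rw [reassoc_of% (pullDown_naturality hP r ψ), hβ])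
    (pullPtDown r ≫ βp)
    (fun j => by
      show (pullCone hP r).π.app j ≫ pullDown hP r j ≫ _ = _
      rw [reassoc_of% (pullCone_down hP r j), hβp])
    Y y (i := top) (pullTo hP r hr top ≫ a) (pullTo hP r hr top ≫ b) hTa hTb W' ρ hρ
    (by simpa only [f, Category.assoc] using hρe)
  rw [reassoc_of% (pullTo_naturality hP r hr τ), reassoc_of% (pullTo_naturality hP r hr τ)] at hτ
  haveI := isIso_map (pullDown hP r l) (admBlowup_pullDown hP r hr l)
  refine ⟨l.left, l.hom, ?_⟩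
  rw [← cancel_epi ((Pair.admBlowup.{u}).Q.map (pullDown hP r l)), ← Functor.map_comp_assoc,
    ← Functor.map_comp_assoc, ← pullTo_comp hP r hr l, Functor.map_comp _ (pullTo hP r hr l) r,
    Category.assoc, Category.assoc, haQ, hbQ, ← Functor.map_comp, ← Functor.map_comp, hτ]

end GrothLib.ModLoc8
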